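import Cfsg.Agent.H325.RIM.Surv
import Cfsg.Agent.H37.NW.NumR

/-!
# S4816, layer (B): the survivors at `3` with order dividing `|Sp(2 n, 2)|`, `n ≤ 5` (helper960)

`surv_three` : they are `PSL₂(9)`, `PSL₃(4)` and groups of order `443520 = |M₂₂|`.
-/

set_option autoImplicit false

namespace Cfsg.Agent.H960.RIM

open Cfsg Cfsg.Agent.OrdDiv Cfsg.Agent.H436

universe u

theorem P_dvd_five {n : ℕ} (hn : n ≤ 5) :
    Cfsg.Agent.H37.NW.P 2 n ∣ 2 ^ 25 * 3 ^ 6 * 5 ^ 2 * 7 * 11 * 17 * 31 := by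
  interval_cases n <;> norm_num [Cfsg.Agent.H37.NW.P, Finset.prod_range_succ]

/-- `PSL₂(3^f)` -/
theorem psl_two_q {q c : ℕ} (hq : IsPrimePow q) (h4 : 4 ≤ q) (h3 : 3 ∣ q)
    (he : fPSL.den 2 q * c = fPSL.num 2 q) (hd : c ∣ 2 ^ 25 * 3 ^ 6 * 5 ^ 2 * 7 * 11 * 17 * 31) : q = 9 := by
  obtain ⟨r, f, hr, hf, hrf⟩ := hq
  have hr3 : r = 3 := by
    have h1 : 3 ∣ r := Nat.Prime.dvd_of_dvd_pow Nat.prime_three (hrf ▸ h3)
    exact ((Nat.prime_dvd_prime_iff_eq Nat.prime_three hr.nat_prime).1 h1).symm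
  subst hr3
  have hodd : q % 2 = 1 := by
    rw [← hrf]
    exact Nat.odd_iff.1 (Odd.pow (by decide))
  have hg : Nat.gcd 2 (q - 1) = 2 := Nat.gcd_eq_left (by omega)
  have h1 : fPSL.den 2 q = 2 * (q - 1) := by
    change Nat.gcd 2 (q - 1) * (q - 1) = _
    rw [hg]
  have h2 : fPSL.num 2 q = (q ^ 2 - 1) * (q ^ 2 - q) := by
    change glN 2 q = _
    simp [glN, List.range_succ]
  rw [h1, h2] at he
  have h5 : q ^ 2 - q = q * (q - 1) := by
    rw [Nat.mul_sub, mul_one, sq]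
  have hq1 : 0 < q - 1 := by omega
  have h6 : 2 * c = q * (q ^ 2 - 1) := by
    apply Nat.eq_of_mul_eq_mul_left hq1
    calc (q - 1) * (2 * c) = 2 * (q - 1) * c := by ring
      _ = (q ^ 2 - 1) * (q ^ 2 - q) := he
      _ = (q - 1) * (q * (q ^ 2 - 1)) := by rw [h5]; ring
  have h7 : q * (q ^ 2 - 1) ∣ 2 * (2 ^ 25 * 3 ^ 6 * 5 ^ 2 * 7 * 11 * 17 * 31) := by
    rw [← h6]
    exact Nat.mul_dvd_mul_left 2 hd
  have h8 : 3 ^ f ∣ 2 * (2 ^ 25 * 3 ^ 6 * 5 ^ 2 * 7 * 11 * 17 * 31) :=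
    hrf ▸ (Dvd.intro _ rfl).trans h7
  have hf6 : f ≤ 6 := by
    by_contra hcon
    have h9 : 3 ^ 7 ∣ 2 * (2 ^ 25 * 3 ^ 6 * 5 ^ 2 * 7 * 11 * 17 * 31) :=
      (pow_dvd_pow 3 (by omega)).trans h8
    exact absurd h9 (by norm_num)
  subst hrf
  interval_cases f
  · norm_num at h4
  · norm_num
  · exact absurd h7 (by norm_num)
  · exact absurd h7 (by norm_num)
  · exact absurd h7 (by norm_num)
  · exact absurd h7 (by norm_num)

theorem surv_three {S : Type u} [Group S] [Finite S] {n : ℕ} (hn : n ≤ 5)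
    (hd : Nat.card S ∣ Cfsg.Agent.H37.NW.P 2 n) (h : Cfsg.Agent.H325.RIM.Surv 3 S) :
    (∃ (F : Type) (_ : Field F) (_ : Fintype F), Fintype.card F = 9 ∧
      Nonempty (S ≃* Matrix.ProjectiveSpecialLinearGroup (Fin 2) F)) ∨
    (∃ (F : Type) (_ : Field F) (_ : Fintype F), Fintype.card F = 4 ∧
      Nonempty (S ≃* Matrix.ProjectiveSpecialLinearGroup (Fin 3) F)) ∨
    Nat.card S = 443520 := by
  have hd5 := hd.trans (P_dvd_five hn)
  obtain ⟨g, hg, hs⟩ := h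
  have hord : Nat.card S = ordN g := hg.ord
  cases g
  case psl m q =>
    obtain ⟨F, i1, i2, hF, e⟩ := hg.real
    rcases hs with ⟨rfl, h3⟩ | ⟨rfl, rfl, -⟩
    · left
      have h9 := psl_two_q hg.cond.2.2 (hg.cond.2.1 rfl) h3 hg.eq hd5
      exact ⟨F, i1, i2, hF.trans h9, e⟩
    · right; left
      exact ⟨F, i1, i2, hF, e⟩
  case m22 =>
    right; right
    rw [hord]
    rfl
  case hs =>
    exfalso
    rw [hord] at hd5
    have : ordN .hs = 44352000 := rfl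
    rw [this] at hd5
    exact absurd hd5 (by norm_num)
  all_goals
    exfalso
    simp [Cfsg.Agent.H325.RIM.SurvN] at hs

end Cfsg.Agent.H960.RIM
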